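import Mathlib.RingTheory.Spectrum.Prime.Jacobson
import Mathlib.RingTheory.Spectrum.Prime.ConstructibleSet
import Mathlib.RingTheory.Jacobson.Ring
import Mathlib.RingTheory.Ideal.GoingUp

/-! Constructible subsets of spectra of Jacobson rings and their closed points. -/

universe u

open PrimeSpectrum Topology

namespace Groth.Agent.JacConstr

variable {R S : Type u} [CommRing R] [CommRing S] [Algebra R S]

lemma isClosed_image_singleton [IsJacobsonRing R] [Algebra.FiniteType R S] {y : PrimeSpectrum S}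
    (hy : IsClosed ({y} : Set (PrimeSpectrum S))) :
    IsClosed ({PrimeSpectrum.comap (algebraMap R S) y} : Set (PrimeSpectrum R)) := by
  rw [isClosed_singleton_iff_isMaximal] at hy ⊢
  letI : Field (S ⧸ y.asIdeal) := Ideal.Quotient.field y.asIdeal
  haveI : Algebra.FiniteType R (S ⧸ y.asIdeal) :=
    Algebra.FiniteType.of_surjective (Ideal.Quotient.mkₐ R y.asIdeal) Ideal.Quotient.mk_surjective
  haveI : Module.Finite R (S ⧸ y.asIdeal) := finite_of_finite_type_of_isJacobsonRing R _
  have : ((⊥ : Ideal (S ⧸ y.asIdeal)).comap (algebraMap R (S ⧸ y.asIdeal))).IsMaximal :=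
    Ideal.isMaximal_comap_of_isIntegral_of_isMaximal (R := R) (S := S ⧸ y.asIdeal) ⊥
  convert this using 1
  ext r
  change algebraMap R S r ∈ y.asIdeal ↔ algebraMap R (S ⧸ y.asIdeal) r ∈ (⊥ : Ideal (S ⧸ y.asIdeal))
  rw [Ideal.mem_bot, IsScalarTower.algebraMap_apply R S (S ⧸ y.asIdeal), Ideal.Quotient.algebraMap_eq,
    Ideal.Quotient.eq_zero_iff_mem]

/-- Every point of a constructible set lies in a locally closed subset of it. -/
lemma exists_locallyClosed {E : Set (PrimeSpectrum S)} (hE : IsConstructible E)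
    {y : PrimeSpectrum S} (hy : y ∈ E) : ∃ Z, IsLocallyClosed Z ∧ y ∈ Z ∧ Z ⊆ E := by
  obtain ⟨d, rfl⟩ := exists_constructibleSetData_iff.mpr hE
  rw [ConstructibleSetData.toSet] at hy ⊢
  simp only [Set.mem_iUnion] at hy
  obtain ⟨C, hC, hyC⟩ := hy
  refine ⟨C.toSet, ?_, hyC, fun z hz => Set.mem_biUnion hC hz⟩
  rw [BasicConstructibleSetData.toSet, Set.sdiff_eq]
  exact (isClosed_zeroLocus _).isLocallyClosed.inter
    (isClosed_zeroLocus _).isOpen_compl.isLocallyClosed

/-- Closed points of `E ∩ closure {y}` are dense near `y`. -/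
lemma mem_closure_closedPoints [IsJacobsonRing S] {E : Set (PrimeSpectrum S)} (hE : IsConstructible E)
    {y : PrimeSpectrum S} (hy : y ∈ E) :
    y ∈ closure (closure {y} ∩ E ∩ closedPoints (PrimeSpectrum S)) := by
  obtain ⟨Z, hZ, hyZ, hZE⟩ := exists_locallyClosed hE hy
  have h := JacobsonSpace.closure_inter_closedPoints_eq_closure
    ((isClosed_closure (s := {y})).isLocallyClosed.inter hZ)
  have : y ∈ closure (closure {y} ∩ Z) := subset_closure ⟨subset_closure rfl, hyZ⟩
  rw [← h] at this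
  exact closure_mono (Set.inter_subset_inter_left _ (Set.inter_subset_inter_right _ hZE)) this

lemma relClosedPoints_eq [IsJacobsonRing S] {E : Set (PrimeSpectrum S)} (hE : IsConstructible E) :
    {y | y ∈ E ∧ closure {y} ∩ E = {y}} = E ∩ closedPoints (PrimeSpectrum S) := by
  ext y
  constructor
  · rintro ⟨hy, h⟩
    refine ⟨hy, ?_⟩
    obtain ⟨z, hz, hz'⟩ := closure_nonempty_iff.mp ⟨y, mem_closure_closedPoints hE hy⟩
    have : z = y := by
      rw [h] at hz; exact hz
    exact this ▸ hz'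
  · rintro ⟨hy, hy'⟩
    refine ⟨hy, ?_⟩
    rw [hy'.closure_eq]
    exact Set.inter_eq_left.mpr (Set.singleton_subset_iff.mpr hy)

lemma mem_image_of_mem_closure {E : Set (PrimeSpectrum S)} (hE : IsConstructible E)
    {ξ : PrimeSpectrum R}
    (h : ξ ∈ closure (closure {ξ} ∩ PrimeSpectrum.comap (algebraMap R S) '' E)) :
    ξ ∈ PrimeSpectrum.comap (algebraMap R S) '' E := by
  obtain ⟨T, _, g, rfl⟩ := exists_range_eq_of_isConstructible hE
  have hk : PrimeSpectrum.comap (algebraMap R S) '' Set.range (PrimeSpectrum.comap g) = Set.range (PrimeSpectrum.comap (g.comp (algebraMap R S))) := by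
    rw [← Set.range_comp]; rfl
  rw [hk] at h ⊢
  set k := g.comp (algebraMap R S)
  obtain ⟨I, hI⟩ := (isClosed_iff_zeroLocus_ideal _).mp
    ((isClosed_closure (s := {ξ})).preimage (continuous_comap k))
  have h2 : closure {ξ} ∩ Set.range (comap k) = comap k '' zeroLocus (I : Set T) := by
    rw [← hI, Set.image_preimage_eq_inter_range]
  rw [h2] at h
  have h3 : ξ ∈ zeroLocus (I.comap k : Set R) := by
    refine closure_minimal ?_ (isClosed_zeroLocus _) h
    rintro _ ⟨q, hq, rfl⟩
    exact Ideal.comap_mono hq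
  obtain ⟨q, hqI, hq, hqle⟩ := ξ.asIdeal.exists_ideal_comap_le_prime I h3
  refine ⟨⟨q, hq⟩, ?_⟩
  have h4 : comap k ⟨q, hq⟩ ∈ closure ({ξ} : Set (PrimeSpectrum R)) :=
    (Set.ext_iff.mp hI ⟨q, hq⟩).mpr hqI
  rw [← specializes_iff_mem_closure, ← le_iff_specializes] at h4
  exact le_antisymm hqle h4

end Groth.Agent.JacConstr
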